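import Cfsg.Agent.Lib.Comp.Fast

set_option maxRecDepth 100000
set_option Elab.async false

namespace Cfsg.Lib.Comp.L216x

universe u

def iv : ℕ → ℕ := (fun x => look (nat_lit 0xffef7cefae78df6d74cf2c70beeb6caeaa689e69648e28607de75c6da6585d65544d24503ce34c2ca2481c6143101080) 6 x)

noncomputable def R : List (List ℕ × ℕ) := [([3],2),
 ([1,3,2,4],0),
 ([1],4),
 ([5],1),
 ([3,5],2),
 ([1,5],4),
 ([1,1,5,2,3,5,4,2,5],0),
 ([6],1),
 ([1,6],1),
 ([3,6],1),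
 ([5,6],2),
 ([1,2],0),
 ([3,4],0)]

def L : List ℕ := [1,2,3,4,5,6]

end Cfsg.Lib.Comp.L216x
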