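import Cfsg.Agent.Lib.Comp.L216x.Perm

set_option maxRecDepth 100000
set_option Elab.async false

namespace Cfsg.Lib.Comp.L216x

universe u

noncomputable def T0_R : List (List ℕ × ℕ) := [([3],2),
 ([1,3,2,4],0),
 ([1],4),
 ([5],1),
 ([3,5],2),
 ([1,5],4),
 ([1,1,5,2,3,5,4,2,5],0),
 ([6],1),
 ([1,6],1),
 ([3,6],1),
 ([5,6],2),
 ([1,2],0),
 ([3,4],0)]

theorem nets_rel_T0 : Rels (gp nets) T0_R := nets_rel.mono (by decide +kernel)

theorem T0_fin : finB 20 nets [1,2,3,4,5,6] 17 (runH 20 nets (fun x p => ptInv (nth Net.nil nets x) p) iv T0_R [] ([1,2,3,4,5].map fun x => [x]) 0 []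
  [1,5,9,13,17,12,28,32,36,40,44,48,0,4,16,24,32,36,40,44,48,12,16,20,24,28,32,36,40,44,48,0,4,16,24,32,44,48]
  (defsH 20 nets (ones 140) [6,5,1,2,3,4,5,6] (Nat.shiftLeft 1 0) 0)) = true := by decide +kernel

theorem T0_idx : Idx.{u} iv (T0_R ++ []) ([1,2,3,4,5].map fun x => [x]) [1,2,3,4,5,6] 17 :=
  Reach.idx nets_ok (reach_runH nets_ok (fun x p _ => ptInv_gp nets_ok x p) nets_rel_T0 (reach_defsH nets_ok _ _ _ _ _ _) _ _) T0_fin (by norm_num)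

end Cfsg.Lib.Comp.L216x
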