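import Cfsg.Agent.Lib.Comp.L216x.Base

set_option maxRecDepth 100000
set_option Elab.async false

namespace Cfsg.Lib.Comp.L216x

universe u

noncomputable def T1_R : List (List ℕ × ℕ) := [([3],2),
 ([1,3,2,4],0),
 ([1],4),
 ([5],1),
 ([3,5],2),
 ([1,5],4),
 ([1,1,5,2,3,5,4,2,5],0),
 ([1,2],0),
 ([3,4],0)]

noncomputable def T1_n_1 : Net :=
 (Net.cons 8 (nat_lit 0x2a)
 (Net.cons 4 (nat_lit 0x208)
 (Net.cons 2 (nat_lit 0x220)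
 (Net.cons 1 (nat_lit 0x5410)
 (Net.cons 2 (nat_lit 0x1122)
 (Net.cons 4 (nat_lit 0x406)
 (Net.cons 8 (nat_lit 0x2e)
 Net.nil)))))))

noncomputable def T1_n_3 : Net :=
 (Net.cons 8 (nat_lit 0xc0)
 (Net.cons 4 (nat_lit 0xa)
 (Net.cons 1 (nat_lit 0x5414)
 (Net.cons 2 (nat_lit 0x3300)
 (Net.cons 4 (nat_lit 0x908)
 (Net.cons 8 (nat_lit 0xc)
 Net.nil))))))

noncomputable def T1_n_5 : Net :=
 (Net.cons 8 (nat_lit 0xf4)
 (Net.cons 4 (nat_lit 0x20c)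
 (Net.cons 2 (nat_lit 0x200)
 (Net.cons 1 (nat_lit 0x1405)
 (Net.cons 2 (nat_lit 0x1330)
 (Net.cons 4 (nat_lit 0xd0c)
 (Net.cons 8 (nat_lit 0xf4)
 Net.nil)))))))

noncomputable def T1_n : List Net := [Net.nil,
 T1_n_1,
 Net.rev T1_n_1,
 T1_n_3,
 Net.rev T1_n_3,
 T1_n_5]

theorem T1_n_ok : NetsOK 16 T1_n := netsOK_of (by decide +kernel)

theorem T1_n_rel : Rels (gp T1_n) T1_R := rels_of_relsB (k := 4) T1_n_ok (by norm_num) (by decide +kernel)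

theorem T1_fin : finB 16 T1_n [1,2,3,4,5] 16 (runH 16 T1_n (fun x p => ptInv (nth Net.nil T1_n x) p) iv T1_R [] ([1,2,3,4].map fun x => [x]) 0 []
  [1,5,9,13,12,28,32,0,4,8,16,24,28,32,12,16,20,24,28,32,4,24,28,0,4]
  (defsH 16 T1_n (ones 112) [5,1,2,3,4,5,1,2] (Nat.shiftLeft 1 0) 0)) = true := by decide +kernel

theorem T1_idx : Idx.{u} iv (T1_R ++ []) ([1,2,3,4].map fun x => [x]) [1,2,3,4,5] 16 :=
  Reach.idx T1_n_ok (reach_runH T1_n_ok (fun x p _ => ptInv_gp T1_n_ok x p) T1_n_rel (reach_defsH T1_n_ok _ _ _ _ _ _) _ _) T1_fin (by norm_num)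

end Cfsg.Lib.Comp.L216x
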