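import Cfsg.Agent.Lib.Comp.L216x.Base

set_option maxRecDepth 100000
set_option Elab.async false

namespace Cfsg.Lib.Comp.L216x

universe u

noncomputable def T2_R : List (List ℕ × ℕ) := [([3],2),
 ([1,3,2,4],0),
 ([1],4),
 ([1,2],0),
 ([3,4],0)]

noncomputable def T2_n_1 : Net :=
 (Net.cons 8 (nat_lit 0xde)
 (Net.cons 4 (nat_lit 0xc0e)
 (Net.cons 2 (nat_lit 0x2000)
 (Net.cons 1 (nat_lit 0x1401)
 (Net.cons 2 (nat_lit 0x3130)
 (Net.cons 4 (nat_lit 0x308)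
 (Net.cons 8 (nat_lit 0xe5)
 Net.nil)))))))

noncomputable def T2_n_3 : Net :=
 (Net.cons 8 (nat_lit 0xf2)
 (Net.cons 4 (nat_lit 0x400)
 (Net.cons 1 (nat_lit 0x515)
 (Net.cons 2 (nat_lit 0x2113)
 (Net.cons 4 (nat_lit 0xf01)
 (Net.cons 8 (nat_lit 0xc7)
 Net.nil))))))

noncomputable def T2_n : List Net := [Net.nil,
 T2_n_1,
 Net.rev T2_n_1,
 T2_n_3,
 Net.rev T2_n_3]

theorem T2_n_ok : NetsOK 16 T2_n := netsOK_of (by decide +kernel)

theorem T2_n_rel : Rels (gp T2_n) T2_R := rels_of_relsB (k := 4) T2_n_ok (by norm_num) (by decide +kernel)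

theorem T2_fin : finB 16 T2_n [1,2,3,4] 15 (runH 16 T2_n (fun x p => ptInv (nth Net.nil T2_n x) p) iv T2_R [] ([].map fun x => [x]) 0 []
  [12,16,0,4,8,12,16,0,4,8,16]
  (defsH 16 T2_n (ones 112) [1,2,3,4,1,2] (Nat.shiftLeft 1 0) 0)) = true := by decide +kernel

theorem T2_idx : Idx.{u} iv (T2_R ++ []) ([].map fun x => [x]) [1,2,3,4] 15 :=
  Reach.idx T2_n_ok (reach_runH T2_n_ok (fun x p _ => ptInv_gp T2_n_ok x p) T2_n_rel (reach_defsH T2_n_ok _ _ _ _ _ _) _ _) T2_fin (by norm_num)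

end Cfsg.Lib.Comp.L216x
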