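import Cfsg.Agent.Lib.Comp.L216x.Perm
import Cfsg.Agent.Lib.Comp.PermGrp
import Cfsg.Agent.Lib.Comp.Bridge2
import Cfsg.Agent.Lib.Comp.L216x.T0
import Cfsg.Agent.Lib.Comp.L216x.T1
import Cfsg.Agent.Lib.Comp.L216x.T2

set_option maxRecDepth 100000
set_option Elab.async false

namespace Cfsg.Lib.Comp.L216x

universe u

theorem T2_ord : Ord.{u} iv T2_R [1,2,3,4] 15 :=
  (T2_idx.ord_base).of_cons (cons_of_subset (by decide +kernel))

theorem T1_ord : Ord.{u} iv T1_R [1,2,3,4,5] 240 :=
  (T1_idx.ord_step T2_ord).of_cons (cons_of_subset (by decide +kernel))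

theorem T0_ord : Ord.{u} iv T0_R [1,2,3,4,5,6] 4080 :=
  (T0_idx.ord_step T1_ord).of_cons (cons_of_subset (by decide +kernel))

theorem ord : Ord.{u} iv R L 4080 := T0_ord.of_cons (cons_of_subset (by decide +kernel))

theorem card : Nat.card (cl (gp nets) L) = 4080 := card_of_ord ord nets_iv nets_rel lb

noncomputable def nc_h : ℕ := (nat_lit 0x3000000000000000200000000000000050000000000000000000004000000000000000200000000010000040000020005000004000004000600000200000400000000020000050001000000000004000000000800000000050000050000080006000004000005000400000200000800010000020000000006000000000000000000000200000700000000000000010005000001000007000200000400000800040000070000080002000000000007000300000000000500040000040000050004000000000004000500000000000200020000010000020006000000000001)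

noncomputable def nc_c : List ℕ := [(nat_lit 0xd000061008202000049000061007e0200000900005d00260200005f00003500005f00005b007e0400004900005900003500004900005900220500005100005500060200005300000b00003300000900005100720500003d00004f005e0200001700004700003b008203000021000045007a0200001500004100003b00000b000015000041002e0600002300003d000a0200001700003100000d006c0300001f00002f00860200001900002f007a0200000100002b005e0200001b000029000005007e0300002500001b00000900000700002500001b00000900000700002500001b00320a00001b000001000a0200001f00001b00000d001a0300000000000000001300000f000e02000000000000000007000003000a0200000000000000001c)]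

theorem nc_b : goalB 1 (fun _ p => p) iv (allCodes iv (([6,1,5], 0) :: R)) (fun t => look nc_h 64 t, nc_c) 0 [([1],1,(nat_lit 0x6b)),
 ([2],1,(nat_lit 0x69)),
 ([3],1,(nat_lit 0x6d)),
 ([4],1,(nat_lit 0x6f)),
 ([5],1,(nat_lit 0x65)),
 ([6],1,(nat_lit 0x31))] (msk []) = true := by decide +kernel

theorem nc : Mem.{u} iv (([6,1,5], 0) :: R) ([].map fun x => [x]) [[1],
 [2],
 [3],
 [4],
 [5],
 [6]] := mem_of_goalB nc_b

noncomputable def subs : List (List ℕ × ℕ) := [([5,1,3,5,1,1,1],16)]

theorem simpleB : cnd (transB nets L [6,5,1,3,5,1,1,1] 17) (cnd (fxB 20 5 17 nets L)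
  (cnd (invB nets [1,2,3,4,5] (Nat.shiftLeft 1 0)) (subsB nets [1,2,3,4,5] subs 1) false) false) false = true := by decide +kernel

theorem simple : IsSimpleGroup (cl (gp nets) L) :=
  simple_perm nets_ok (by norm_num) (by norm_num) nets_iv nets_rel (by decide +kernel) (fun x hx => mem_all (sub_of_subB (by decide +kernel) x hx)) simpleB (by decide +kernel)
    (p := 17) (a := 1) (m := 240) (j := 1) (by norm_num) (card.trans (by norm_num)) (by norm_num) (by norm_num) (by decide +kernel)
    (w := [6,1,5]) (by decide +kernel) (eq_of_eqB (k := 5) (e := 16) (w := []) nets_ok (by norm_num) (by decide +kernel)) nc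

end Cfsg.Lib.Comp.L216x
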