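import Cfsg.Agent.Lib.Comp.L216x.Main
import Cfsg.Agent.Lib.Comp.Subst
import Cfsg.Agent.Lib.MatB.Fam
import Cfsg.Agent.Lib.Linear.Card

set_option maxRecDepth 100000

namespace Cfsg.Lib.Comp.L216x

open Cfsg.Lib.MatB Matrix

instance factK16 : Fact (∀ r : K4, r ^ 2 ≠ ⟨0, 1⟩ + 1 * r) :=
  ⟨fun ⟨a, b⟩ => by revert a b; decide +kernel⟩

/-- The field with sixteen elements. -/
abbrev K16 : Type := QuadraticAlgebra K4 ⟨0, 1⟩ 1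

theorem card_K16 : Nat.card K16 = 16 := by
  rw [Nat.card_congr (QuadraticAlgebra.equivProd _ _), Nat.card_prod, card_quad]

def mA (x : ℕ) : Matrix (Fin 2) (Fin 2) K16 := [1,
  !![⟨⟨1, 0⟩, ⟨1, 1⟩⟩, 0; 0, ⟨⟨0, 1⟩, ⟨1, 1⟩⟩],
  !![⟨⟨0, 1⟩, ⟨1, 1⟩⟩, 0; 0, ⟨⟨1, 0⟩, ⟨1, 1⟩⟩],
  !![⟨⟨0, 1⟩, 0⟩, 0; 0, ⟨⟨1, 1⟩, 0⟩],
  !![⟨⟨1, 1⟩, 0⟩, 0; 0, ⟨⟨0, 1⟩, 0⟩],
  !![1, 0; ⟨⟨1, 0⟩, ⟨1, 1⟩⟩, 1],
  !![0, ⟨⟨0, 1⟩, ⟨1, 1⟩⟩; ⟨⟨1, 0⟩, ⟨1, 1⟩⟩, 0]].getD x 1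

theorem mA_det (x : ℕ) : (mA x).det = 1 := by
  rw [det_fin_two]
  by_cases h : x < 7
  · revert x; decide +kernel
  · rw [mA, List.getD_eq_default _ _ (not_lt.1 h)]; decide +kernel

def mS (x : ℕ) : SpecialLinearGroup (Fin 2) K16 := ⟨mA x, mA_det x⟩

theorem iso : Nonempty (cl (gp nets) L ≃* SpecialLinearGroup (Fin 2) K16) := by
  obtain ⟨e, -⟩ := embed_of_rels simple nets_iv nets_rel ord lb (δ := mS) (by unfold IvOK; decide +kernel)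
    (by unfold Rels; decide +kernel) (x := 1) (by decide) (by decide +kernel)
  have : Finite K16 := Nat.finite_of_card_ne_zero (by simp [card_K16])
  exact ⟨e.trans ((MulEquiv.subgroupCongr (Subgroup.eq_top_of_card_eq _ (by
    rw [← Nat.card_congr e.toEquiv, card, Cfsg.Lib.Linear.card_SL_two, card_K16]))).trans Subgroup.topEquiv)⟩

end Cfsg.Lib.Comp.L216x
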