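import Cfsg.Agent.Lib.Comp.L216x.Base

set_option maxRecDepth 100000
set_option Elab.async false

namespace Cfsg.Lib.Comp.L216x

universe u

noncomputable def nets_1 : Net :=
 (Net.cons 10 (nat_lit 0x54)
 (Net.cons 5 (nat_lit 0x400c)
 (Net.cons 1 (nat_lit 0x8424)
 (Net.cons 1 (nat_lit 0x50840)
 (Net.cons 1 (nat_lit 0x200a0)
 (Net.cons 1 (nat_lit 0x50140)
 (Net.cons 1 (nat_lit 0x80)
 (Net.cons 5 (nat_lit 0x4414)
 (Net.cons 10 (nat_lit 0x48)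
 Net.nil)))))))))

noncomputable def nets_3 : Net :=
 (Net.cons 10 (nat_lit 0x198)
 (Net.cons 5 (nat_lit 0x6008)
 (Net.cons 1 (nat_lit 0x21424)
 (Net.cons 1 (nat_lit 0x40948)
 (Net.cons 1 (nat_lit 0x1484)
 (Net.cons 1 (nat_lit 0x40)
 (Net.cons 1 (nat_lit 0x20)
 (Net.cons 5 (nat_lit 0x7c08)
 (Net.cons 10 (nat_lit 0x1cc)
 Net.nil)))))))))

noncomputable def nets_5 : Net :=
 (Net.cons 10 (nat_lit 0xaa)
 (Net.cons 5 (nat_lit 0x2012)
 (Net.cons 1 (nat_lit 0x200a4)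
 (Net.cons 1 (nat_lit 0x1294a)
 (Net.cons 1 (nat_lit 0x210a4)
 (Net.cons 1 (nat_lit 0x294a)
 (Net.cons 1 (nat_lit 0xa0)
 (Net.cons 5 (nat_lit 0x3412)
 (Net.cons 10 (nat_lit 0xaa)
 Net.nil)))))))))

noncomputable def nets_6 : Net :=
 (Net.cons 10 (nat_lit 0x214)
 (Net.cons 5 (nat_lit 0x180a)
 (Net.cons 1 (nat_lit 0x90a4)
 (Net.cons 1 (nat_lit 0x52842)
 (Net.cons 1 (nat_lit 0x29485)
 (Net.cons 1 (nat_lit 0x52800)
 (Net.cons 1 (nat_lit 0x9000)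
 (Net.cons 5 (nat_lit 0x1805)
 (Net.cons 10 (nat_lit 0x214)
 Net.nil)))))))))

noncomputable def nets : List Net := [Net.nil,
 nets_1,
 Net.rev nets_1,
 nets_3,
 Net.rev nets_3,
 nets_5,
 nets_6]

theorem nets_ok : NetsOK 20 nets := netsOK_of (by decide +kernel)

theorem nets_rel : Rels (gp nets) R := rels_of_relsB (k := 5) nets_ok (by norm_num) (by decide +kernel)

theorem nets_iv : IvOK (gp nets) iv := ivOK_of_ivB (k := 5) nets_ok (by norm_num) (by decide +kernel)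

noncomputable def slp : List (ℕ × List ℕ) := []

theorem slp_ok : slpB 20 5 nets slp L = true := by decide +kernel

theorem mem_all {x : ℕ} (h : x ∈ L ++ slp.map (·.1)) : gp nets x ∈ cl (gp nets) L :=
  cl_eq_of_slpB nets_ok (by norm_num) slp_ok ▸ mem_cl h

theorem lb : 4080 ≤ Nat.card (cl (gp nets) L) := by
  rw [← cl_eq_of_slpB nets_ok (by norm_num) slp_ok]
  exact lb_of_chainB nets_ok (C := [([1,2,3,4,5],[6,5,1,3,5,1,1,1],0,0,17),
 ([1,2,3,4],[5,1,3,5,1,1,1],1,1,16),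
 ([],[1,3,1,3,1,1],2,2,15)]) (by decide +kernel)

end Cfsg.Lib.Comp.L216x
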